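import Cfsg.Agent.Lib.KnownB.O7Mult.Bound
import Cfsg.Agent.Lib.OmegaSevenThree.Main

/-! The Schur multiplier of `PΩ₇(3)` over any field with three elements. -/

set_option autoImplicit false
set_option maxRecDepth 100000
set_option synthInstance.maxSize 4000
set_option maxHeartbeats 1000000

namespace CfsgLib.KnownB.O7Mult

open Subgroup Cfsg Matrix

universe u v

/-- Multipliers correspond along isomorphisms. -/
theorem hasSchurMultiplier_equiv {Q : Type u} {Q' : Type v} [Group Q] [Group Q'] [Finite Q] [Finite Q']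
    {A : Type*} [CommGroup A] (e : Q ≃* Q') (h : HasSchurMultiplier Q A) : HasSchurMultiplier Q' A := by
  rw [Schur.hasSchurMultiplier_iff] at h ⊢
  obtain ⟨i⟩ := h
  have key : ∀ {R : Type u} {R' : Type v} [Group R] [Group R'] [Finite R] [Finite R'] (f : R ≃* R'),
      ∃ π : Schur.Mult R' →* Schur.Mult R, Function.Surjective π := by
    intro R R' _ _ _ _ f
    obtain ⟨Γ, _, _, σ, _, hs, _, _, _, ⟨j⟩⟩ := Schur.exists_cover R
    have hk : (f.toMonoidHom.comp σ).ker = σ.ker := by ext x; simp [MonoidHom.mem_ker]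
    obtain ⟨π, hπ⟩ := Schur.exists_mult_surjective (f.toMonoidHom.comp σ)
      ⟨f.surjective.comp hs.1, hk ▸ hs.2.1, hk ▸ hs.2.2⟩
    exact ⟨(j.toMonoidHom.comp (MulEquiv.subgroupCongr hk).toMonoidHom).comp π,
      (j.surjective.comp (MulEquiv.subgroupCongr hk).surjective).comp hπ⟩
  have key' : ∀ {R : Type v} {R' : Type u} [Group R] [Group R'] [Finite R] [Finite R'] (f : R ≃* R'),
      ∃ π : Schur.Mult R' →* Schur.Mult R, Function.Surjective π := by
    intro R R' _ _ _ _ f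
    obtain ⟨Γ, _, _, σ, _, hs, _, _, _, ⟨j⟩⟩ := Schur.exists_cover R
    have hk : (f.toMonoidHom.comp σ).ker = σ.ker := by ext x; simp [MonoidHom.mem_ker]
    obtain ⟨π, hπ⟩ := Schur.exists_mult_surjective (f.toMonoidHom.comp σ)
      ⟨f.surjective.comp hs.1, hk ▸ hs.2.1, hk ▸ hs.2.2⟩
    exact ⟨(j.toMonoidHom.comp (MulEquiv.subgroupCongr hk).toMonoidHom).comp π,
      (j.surjective.comp (MulEquiv.subgroupCongr hk).surjective).comp hπ⟩
  obtain ⟨π, hπ⟩ := key' e.symm
  obtain ⟨ρ, hρ⟩ := key e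
  have hc : Nat.card (Schur.Mult Q) = Nat.card (Schur.Mult Q') :=
    le_antisymm (Nat.card_le_card_of_surjective _ hρ) (Nat.card_le_card_of_surjective _ hπ)
  exact ⟨i.trans (MulEquiv.ofBijective π ((Nat.bijective_iff_surjective_and_card π).2 ⟨hπ, hc⟩))⟩

open CfsgLib.Schur.OddMultiplier in
theorem multiplier_G : HasCyclicSchurMultiplier G 6 := by
  haveI : Finite Cov := Nat.finite_of_card_ne_zero (by rw [natCard_cov]; norm_num)
  haveI : Fact (Nat.Prime 3) := ⟨Nat.prime_three⟩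
  obtain ⟨Γ, _, _, σ, _, hs, _, _, _, ⟨j⟩⟩ := Schur.exists_cover G
  obtain ⟨hcyc, hle⟩ := ker_bound σ hs
  haveI : IsCyclic (Schur.Mult G) := isCyclic_of_surjective j.toMonoidHom j.surjective
  haveI : Finite (Schur.Mult G) := Finite.of_equiv _ j.toEquiv
  obtain ⟨π3, h3⟩ := Schur.exists_mult_surjective proj isStem_proj
  obtain ⟨ψ⟩ := exists_orth_equiv
  obtain ⟨Y, _, _, r, hr, hrc, hp, hcard⟩ := exists_cover (F := ZMod 3) three_facts.1 (m := 3) le_rfl
  let r1 : Y →* _root_.commutator (Geometry.orth (QO (ZMod 3) 3)) := r.codRestrict _ fun y => hr ▸ ⟨y, rfl⟩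
  let f : Y →* G := ψ.symm.toMonoidHom.comp r1
  have hk : f.ker = r.ker := by
    ext y
    rw [MonoidHom.mem_ker, MonoidHom.comp_apply, MulEquiv.coe_toMonoidHom, map_eq_one_iff _ ψ.symm.injective,
      MonoidHom.mem_ker]
    exact ⟨fun h => congrArg Subtype.val h, fun h => Subtype.ext h⟩
  obtain ⟨π2, h2⟩ := Schur.exists_mult_surjective f
    ⟨ψ.symm.surjective.comp fun g => by
      obtain ⟨y, hy⟩ := hr.ge g.2
      exact ⟨y, Subtype.ext hy⟩, hk ▸ hrc, hp ▸ le_top⟩
  have d3 : 3 ∣ Nat.card (Schur.Mult G) := by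
    have := Subgroup.card_dvd_of_surjective π3 h3
    rwa [natCard_ker] at this
  have d2 : 2 ∣ Nat.card (Schur.Mult G) := by
    have := Subgroup.card_dvd_of_surjective π2 h2
    rwa [hk, hcard] at this
  have hle' : Nat.card (Schur.Mult G) ≤ 6 := (Nat.card_congr j.toEquiv).symm.le.trans hle
  have hpos : 0 < Nat.card (Schur.Mult G) := Nat.card_pos
  rw [HasCyclicSchurMultiplier, Schur.hasSchurMultiplier_iff]
  exact ⟨mulEquivOfCyclicCardEq (Eq.trans (Nat.card_zmod 6) (by omega))⟩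

theorem exists_equiv_field {F : Type u} [Field F] [Fintype F] (hF : Fintype.card F = 3) :
    Nonempty (G ≃* Cfsg.POmega F (Cfsg.quadFormOdd 3 F)) := by
  let e : ZMod 3 ≃+* F := ZMod.ringEquivOfPrime F Nat.prime_three hF
  let M : Matrix OmegaSevenThree.I7 OmegaSevenThree.I7 (ZMod 3) ≃* Matrix OmegaSevenThree.I7 OmegaSevenThree.I7 F :=
    e.mapMatrix.toMulEquiv
  let E : GL OmegaSevenThree.I7 (ZMod 3) ≃* GL OmegaSevenThree.I7 F := Units.mapEquiv M
  have hq : ∀ v : OmegaSevenThree.I7 → ZMod 3,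
      Cfsg.quadFormOdd 3 F (e ∘ v) = e (Cfsg.quadFormOdd 3 (ZMod 3) v) := fun v => by
    simp [Cfsg.quadFormOdd]
  have hm : ∀ (A : Matrix OmegaSevenThree.I7 OmegaSevenThree.I7 (ZMod 3)) (v : OmegaSevenThree.I7 → ZMod 3),
      M A *ᵥ (e ∘ v) = e ∘ (A *ᵥ v) := fun A v => by
    funext i
    exact (RingHom.map_mulVec e.toRingHom A v i).symm
  have himg : (Cfsg.isometryGroup (ZMod 3) (Cfsg.quadFormOdd 3 (ZMod 3))).map E.toMonoidHom =
      Cfsg.isometryGroup F (Cfsg.quadFormOdd 3 F) := by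
    ext g
    rw [Subgroup.mem_map_equiv]
    constructor
    · intro h u w
      obtain ⟨v, rfl⟩ : ∃ v, u = e ∘ v := ⟨e.symm ∘ u, by funext i; simp⟩
      show Cfsg.quadFormOdd 3 F ((g : Matrix _ _ F) *ᵥ (e ∘ v)) = _
      have hg : (g : Matrix _ _ F) = M ((E.symm g : GL _ _) : Matrix _ _ (ZMod 3)) :=
        congrArg Units.val (E.apply_symm_apply g).symm
      rw [hg, hm, hq]
      exact (congrArg e (h v v)).trans (hq v).symm
    · intro h v w
      have h' := h (e ∘ v) (e ∘ v)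
      change Cfsg.quadFormOdd 3 F ((g : Matrix _ _ F) *ᵥ (e ∘ v)) = _ at h'
      have hg : (g : Matrix _ _ F) = M ((E.symm g : GL _ _) : Matrix _ _ (ZMod 3)) :=
        congrArg Units.val (E.apply_symm_apply g).symm
      rw [hg, hm, hq] at h'
      exact e.injective (h'.trans (hq v))
  let I : Cfsg.isometryGroup (ZMod 3) (Cfsg.quadFormOdd 3 (ZMod 3)) ≃*
      Cfsg.isometryGroup F (Cfsg.quadFormOdd 3 F) :=
    (E.subgroupMap _).trans (MulEquiv.subgroupCongr himg)
  have hOm : (Cfsg.Omega (ZMod 3) (Cfsg.quadFormOdd 3 (ZMod 3))).map I.toMonoidHom =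
      Cfsg.Omega F (Cfsg.quadFormOdd 3 F) := by
    rw [Cfsg.Omega, Cfsg.Omega, _root_.commutator_def, _root_.commutator_def, Subgroup.map_commutator,
      Subgroup.map_top_of_surjective _ I.surjective]
  let O : G ≃* Cfsg.Omega F (Cfsg.quadFormOdd 3 F) :=
    (I.subgroupMap _).trans (MulEquiv.subgroupCongr hOm)
  let π : G →* Cfsg.POmega F (Cfsg.quadFormOdd 3 F) := (QuotientGroup.mk' _).comp O.toMonoidHom
  refine ⟨MulEquiv.ofBijective π ⟨(injective_iff_map_eq_one π).2 fun g hg => ?_,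
    (QuotientGroup.mk'_surjective _).comp O.surjective⟩⟩
  have hg' : O g ∈ Subgroup.center (Cfsg.Omega F (Cfsg.quadFormOdd 3 F)) :=
    (QuotientGroup.eq_one_iff _).1 hg
  have : g ∈ Subgroup.center G := Subgroup.mem_center_iff.2 fun w =>
    O.injective (by rw [map_mul, map_mul, Subgroup.mem_center_iff.1 hg' (O w)])
  rwa [OmegaSevenThree.center_eq_bot, Subgroup.mem_bot] at this

theorem hasMultiplier {F : Type u} [Field F] [Fintype F] (hF : Fintype.card F = 3) :
    Cfsg.HasCyclicSchurMultiplier (Cfsg.POmega F (Cfsg.quadFormOdd 3 F)) 6 := by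
  obtain ⟨e⟩ := exists_equiv_field hF
  haveI : Finite G := Nat.finite_of_card_ne_zero (by
    rw [OmegaSevenThree.card_omega]; norm_num)
  haveI : Finite (Cfsg.POmega F (Cfsg.quadFormOdd 3 F)) := Finite.of_equiv _ e.toEquiv
  exact hasSchurMultiplier_equiv e multiplier_G

end CfsgLib.KnownB.O7Mult
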